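import Cfsg.Agent.J4Rep94.C8.Data

/-!
# Certificate data
-/

set_option autoImplicit false
set_option maxRecDepth 100000

namespace Cfsg.Agent.J4Rep94.C8

open Cfsg.Agent.CosetEnum

def fv0 : ℕ := 0x71000010006e0017100002000390000800138000010006c0016f000020006a000060013a000010006a0016d0000200082000080010200001000680016b00002000810000600100000010006600169000020008000007000fe000010006400167000020007f000060013c000010006200165000020009c0000700136000010006000163000020009b0000600134000010005e00161000020009a0000800132000010005c0015f00002000990000600130000010005a0015d0000200098000080012e00001000580015b0000200097000060012c0000100056001590000200096000070012a000010005400157000020009500006001280000100052001550000200094000070012600001000500015300002000930000600124000010004e0015100002000920000800122000010004c0014f00002000910000600120000010004a0014d0000200090000080011e00001000480014b000020008f000060011c000010004600149000020008e000070011a000010004400147000020008d0000600118000010004200145000020008c0000700116000010004000143000020008b000060011400140000020003e000010001f0000500112001100010e0010c0010a001080010600104000740013e0000d0000f0000c0003c0003a00038000360003400032000300002e0002c0002a00028000260002400022000200001e0001c0001a000180001600014000120001000017000080000400072000010000a000010000500003000ff00101001030013b0013900070000010000300005000070000a001360013400132001300012e0012c0012a00128001260012400122001200011e0011c0011a00118001160011400112001100010e0010c0010a0010800106001040007400072000080001d00004000020013900070000020010200100000fe000fc000fa000f8000f6000f4000f2000f0000ee000ec000ea000e8000e6000e4000e2000e0000de000dc000da000d8000d6000d40007800076000740007200008000060000400002000000002100000000010007000001000d2000d0000ce000cc000ca000c8000c6000c4000c2000c0000be000bc000ba000b8000b6000b4000b2000b0000ae000ac000aa000a8000a6000a4000a2000a00009e0009c0009a00098000960009400092000900008e0008c0008a00088000860008400082000800007e0007c0007a000780007600074000720000800006000040000200000000360000000000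
theorem fok0 : sys.checkFacts 156 30 fv0 = true := by decide +kernel


end Cfsg.Agent.J4Rep94.C8
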