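import Cfsg.Agent.J4Rep94.P7
import Cfsg.Agent.J4Rep94.Orbit

/-!
# Certificate data
-/

set_option autoImplicit false
set_option maxRecDepth 100000

namespace Cfsg.Agent.J4Rep94.C8

open Cfsg.Agent.CosetEnum

def fxL0 : ℕ := 0x60000000070300039000371800350001b0c00208000d4600102000683000800003318003f800190c00270000c46001360006030009a0002f18004c800170c00260000b460012e000583000960002b18004a800150c00250000a46001260005030009200027180048800130c002400009460011e0004830008e00023180046800110c00230000846001160004020008a0001f08001d0000304001fc002704000d4001040000390006a00004e0004d880026c00268000134001322000990009800004c0004b840025c0025800012c0012a1000950009400004a00049880024c00248000124001222000910009000004800047840023c0023800011c0011a10008d0008c00004600045880022c00228000114001122000890008800004400043840021c0021800010c0010a1000850008400004200041880020c000ec00010400102100081000800000400003f88001fc001f80000fc000fa20007d0007c00003e0003d84001ec001e80000f4000f22000790007800003c0003b88001dc001d80000ec000ea1000750007400003a0003988001cc001c80000e4000e2100071000700000380003784001bc001b80000dc000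da20006d0006c0000360003584001ac000f42000d4000d20000690006810003400033800019c001982000cc000ca0000650006410003200031800018c001882000c4000c2000061000600800300002f800017c001784000bc000ba00005d0005c08002e0002d800016c001684000b4000b20000590005808002c0002b800015c001584000ac000aa0000550005408002a00029800014c001482000a4000a20000510005010002800027800013c0013820009c0009a00004d0004c10002600025800012c00128200094000920000490004810002400023800011c0011820008c0008a0000450004408002200021800010c0010840008400082000041000400800200001f80000fc000f840007c0007a00003d0003c08001e0001d80000ec000e84000740000a1000390000010001c0001b80000dc000d840006c0006a0000350003408001a0001980000cc000c820006400062000031000301000180001780000bc000b840005c0005a00002d0002c0800160001580000ac000a8200054000520000290002810001400013800009c0009840004c0004a0000250002408001200011800008c0008820004400042000021000200800100000f800007c0007840003c0003a00001d0001c08000e0000d800006c00068400034000320000190001808000c0000b800005c0005820002c0002a0000150001410000a00009800004c00048200024000220000110001008000800007800003c0003840001c0001a00000d0000c08000600005800002c00028200014000120000090000810000400003800001c0001820000c0000a0000050000408000200001800000c000082000040000200000100000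
def fx : PTree := (.leaf fxL0)
def rules0 : DTree Rule := (.node 4 (.node 2 (.node 1 (.leaf ⟨0, [0,1,0,1,0,2,0,1,0,2,0,1,0,2,0,1,0,1,0,2,0,1,0,2,0,1,0,2,0,1,0,1,0,2,0,1,0,2,0,1,0,2,0,1,0,1,0,2,0,1,0,2,0,1], [1], false, 7, 0⟩) (.leaf ⟨2, [0,1,0,1,0,2,0,1,0,1,0,2,0,1,0,1,0,2,0,1,0,2,0,2,0,1,0,2,0,2,0,1,0], [1,0], false, 8, 0⟩)) (.node 1 (.leaf ⟨1, [0,2,0,2,0,1,0,1,0,2,0,2,0,1,0,1,0,2,0,2,0,1,0,1,0,2,0,2,0], [2,0,2,0,1,0,1,0,2,0], false, 6, 0⟩) (.leaf ⟨1, [1], [2], false, 3, 0⟩))) (.node 2 (.node 1 (.leaf ⟨2, [0,1,0,1,0,2,0,1,0,1,0,2,0,1,0,1,0,2,0,1,0,2,0], [1,0,1,0,2,0,1,0,1,0,2,0], false, 8, 0⟩) (.leaf ⟨3, [1], [2,2], false, 3, 0⟩)) (.node 1 (.leaf ⟨3, [0], [0], false, 0, 0⟩) (.node 1 (.leaf ⟨3, [1], [1], false, 1, 0⟩) (.leaf ⟨3, [2], [2], false, 2, 0⟩)))))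
def rules : DTree Rule := rules0
def sys : Sys := ⟨3, 0x18440, fx, rules⟩
def rels : List (List ℕ) := baseRels ++ []
def subs : List (List ℕ) := []

end Cfsg.Agent.J4Rep94.C8
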